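import Groth.Agent.AmpleFibre.Nhd
import Groth.Agent.CohC3.BC.Descent
import Groth.Agent.PicAux.LimitInv
import Groth.Agent.S2491
import Groth.Agent.Chow.VeryAmplePn

/-!
# Ampleness near an ample fibre, finitely presented case
-/

universe u

open CategoryTheory CategoryTheory.Limits AlgebraicGeometry Opposite TopologicalSpace

set_option backward.isDefEq.respectTransparency.types false

noncomputable section

namespace Groth.AmpleFibre

open Groth.CohBase

set_option backward.isDefEq.respectTransparency false in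
set_option backward.defeqAttrib.useBackward true in
/-- An invertible module on a proper scheme of finite presentation over a ring comes from a
Noetherian model. -/
theorem exists_invertible_model {A : Type u} [CommRing A] {U : Scheme.{u}}
    (q : U ⟶ Spec (CommRingCat.of A)) [IsProper q] [LocallyOfFinitePresentation q] {L : U.Modules}
    (hL : PicF.IsInvertible L) :
    ∃ (A₀ : Type u) (_ : CommRing A₀) (_ : IsNoetherianRing A₀) (φ : A₀ →+* A) (X₀ : Scheme.{u})
      (q₀ : X₀ ⟶ Spec (CommRingCat.of A₀)) (r : U ⟶ X₀) (L₀ : X₀.Modules), IsProper q₀ ∧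
      IsPullback r q q₀ (Spec.map (CommRingCat.ofHom φ)) ∧ PicF.IsInvertible L₀ ∧
      Nonempty ((Scheme.Modules.pullback r).obj L₀ ≅ L) := by
  classical
  let AA : CommRingCat.{u} := CommRingCat.of A
  let D := SpectralTopology.fgSchemes AA
  let c := SpectralTopology.fgCone AA
  have hc : IsLimit c := SpectralTopology.isLimitFgCone AA
  haveI hDaff : ∀ i, IsAffine (D.obj i) := fun i => inferInstanceAs (IsAffine (Spec _))
  haveI : IsDirectedOrder (SpectralTopology.FGSub AA) :=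
    ⟨fun s t => ⟨⟨s.1 ⊔ t.1, s.2.sup t.2⟩, (le_sup_left : s.1 ≤ s.1 ⊔ t.1),
      (le_sup_right : t.1 ≤ s.1 ⊔ t.1)⟩⟩
  haveI : Nonempty (SpectralTopology.FGSub AA) := ⟨⟨⊥, Subalgebra.fg_bot⟩⟩
  haveI : IsFiltered (SpectralTopology.FGSub AA) := isFiltered_of_directed_le_nonempty _
  haveI : IsCofiltered (SpectralTopology.FGSub AA)ᵒᵖ := isCofiltered_op_of_isFiltered _
  obtain ⟨i, N, hN⟩ := Limits.exists_proper_stageModel hc (Y := U) q
  let St := Limits.stages D N.hom
  let C := Limits.stagesCone D N.hom (c := c)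
  have hC : IsLimit C := Limits.isLimitStagesCone D N.hom hc
  haveI hprop : ∀ k : Over i, IsProper (pullback.snd N.hom (D.map k.hom)) := fun k =>
    MorphismProperty.pullback_snd _ _ hN
  haveI : ∀ k : Over i, CompactSpace (St.obj k) := fun k =>
    QuasiCompact.compactSpace_of_compactSpace (pullback.snd N.hom (D.map k.hom))
  haveI : ∀ k : Over i, QuasiSeparatedSpace (St.obj k) := fun k =>
    quasiSeparatedSpace_of_quasiSeparated (pullback.snd N.hom (D.map k.hom))
  let e : U ≅ C.pt := N.sq.isoPullback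
  obtain ⟨k, -, L₀, hL₀, ⟨α₀⟩⟩ := Groth.PicAux.LimitInv.exists_stage_invertible (D := St) (c := C) hC
    (Over.mk (𝟙 i)) (Groth.PicAux.isInvertible_pullback e.inv hL)
  let X₁ := pullback N.hom (D.map k.hom)
  let f₀ : X₁ ⟶ D.obj k.left := pullback.snd _ _
  let qX : U ⟶ X₁ := e.hom ≫ C.π.app k
  have hqf : qX ≫ pullback.fst N.hom (D.map k.hom) = N.map := by
    change (e.hom ≫ pullback.lift _ _ _) ≫ _ = _
    exact (Category.assoc _ _ _).trans
      ((congrArg (e.hom ≫ ·) (pullback.lift_fst _ _ _)).trans N.sq.isoPullback_hom_fst)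
  have hqs : qX ≫ f₀ = q ≫ c.π.app k.left := by
    change (e.hom ≫ pullback.lift _ _ _) ≫ pullback.snd _ _ = _
    exact (Category.assoc _ _ _).trans ((congrArg (e.hom ≫ ·) (pullback.lift_snd _ _ _)).trans
      ((Category.assoc _ _ _).symm.trans (congrArg (· ≫ c.π.app k.left) N.sq.isoPullback_hom_snd)))
  have hX : IsPullback qX q f₀ (c.π.app k.left) := by
    refine IsPullback.of_right ?_ hqs (IsPullback.of_hasPullback N.hom (D.map k.hom))
    rw [hqf, c.w]
    exact N.sq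
  have : IsNoetherianRing k.left.unop.1 :=
    have : Algebra.FiniteType ℤ k.left.unop.1 := k.left.unop.1.fg_iff_finiteType.1 k.left.unop.2
    Algebra.FiniteType.isNoetherianRing ℤ _
  exact ⟨k.left.unop.1, inferInstance, inferInstance, k.left.unop.1.val.toRingHom, X₁, f₀, qX, L₀,
    hprop k, hX, hL₀, ⟨((Scheme.Modules.pullbackComp e.hom (C.π.app k)).app L₀).symm ≪≫
      (Scheme.Modules.pullback e.hom).mapIso α₀ ≪≫
      (Scheme.Modules.pullbackComp e.hom e.inv).app L ≪≫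
      (Scheme.Modules.pullbackCongr e.hom_inv_id).app L ≪≫ (Scheme.Modules.pullbackId U).app L⟩⟩

variable {X S : Scheme.{u}} (f : X ⟶ S) [IsProper f] [LocallyOfFinitePresentation f]

set_option maxHeartbeats 1600000 in
/-- An invertible module ample on a fibre is ample over a neighbourhood, without Noetherian hypotheses. -/
theorem exists_nhd_isAmple_fp (y : S) {L : X.Modules} (hL : PicF.IsInvertible L)
    (hy : CohB1.IsAmple ((Scheme.Modules.pullback (f.fiberι y)).obj L)) :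
    ∃ V : S.Opens, IsAffineOpen V ∧ y ∈ V ∧ CohB1.IsAmple (L.restrict (f ⁻¹ᵁ V).ι) := by
  obtain ⟨V₁, hV₁, hy₁, -⟩ := exists_isAffineOpen_mem_and_subset (X := S) (x := y) (U := ⊤) trivial
  let A : Type u := Γ(S, V₁)
  let XA : Scheme.{u} := (f ⁻¹ᵁ V₁ : X.Opens)
  let q : XA ⟶ Spec (CommRingCat.of A) := preimageToSpec f
  have hq := isPullback_preimageToSpec f hV₁
  haveI : IsProper q := MorphismProperty.of_isPullback hq ‹IsProper f›
  haveI : LocallyOfFinitePresentation q :=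
    MorphismProperty.of_isPullback hq ‹LocallyOfFinitePresentation f›
  obtain ⟨A₀, _, _, φ, X₀, q₀, g, L₀, hq₀, hsq, hL₀, ⟨eL⟩⟩ :=
    exists_invertible_model q (Groth.Ega2Proj.isInvertible_restrict (f ⁻¹ᵁ V₁).ι hL)
  -- the fibre of the model
  let k := S.residueField y
  let w : Spec (CommRingCat.of k) ⟶ Spec (CommRingCat.of A₀) :=
    Spec.map (S.evaluation V₁ y hy₁) ≫ Spec.map (CommRingCat.ofHom φ)
  let y₀ : Spec (CommRingCat.of A₀) := w (IsLocalRing.closedPoint k)
  let ψ := Scheme.descResidueField (Scheme.stalkClosedPointTo w)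
  have hψ : Spec.map ψ ≫ (Spec (CommRingCat.of A₀)).fromSpecResidueField y₀ = w :=
    Scheme.descResidueField_stalkClosedPointTo_fromSpecResidueField k _ w
  let hh := fibreToPreimage f y hy₁ ≫ g
  have hbig : IsPullback hh (f.fiberToSpecResidueField y) q₀ w :=
    (isPullback_fibreToPreimage f hV₁ y hy₁).paste_horiz hsq
  let g' : f.fiber y ⟶ q₀.fiber y₀ := pullback.lift hh
    (f.fiberToSpecResidueField y ≫ Spec.map ψ)
    (by rw [Category.assoc (f.fiberToSpecResidueField y), hψ]; exact hbig.w)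
  have hg1 : g' ≫ q₀.fiberι y₀ = hh := pullback.lift_fst _ _ _
  have hsqk : IsPullback g' (f.fiberToSpecResidueField y) (q₀.fiberToSpecResidueField y₀)
      (Spec.map ψ) := by
    have h' : IsPullback (g' ≫ q₀.fiberι y₀) (f.fiberToSpecResidueField y) q₀
        (Spec.map ψ ≫ (Spec (CommRingCat.of A₀)).fromSpecResidueField y₀) := by
      rw [hg1, hψ]; exact hbig
    exact h'.of_right (pullback.lift_snd _ _ _) (IsPullback.of_hasPullback _ _)
  haveI : IsProper q₀ := hq₀
  haveI : IsProper (q₀.fiberToSpecResidueField y₀) :=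
    MorphismProperty.pullback_snd (P := @IsProper) _ _ hq₀
  haveI : Flat (Spec.map ψ) := by
    rw [HasRingHomProperty.Spec_iff (P := @Flat)]
    letI : Algebra ((Spec (CommRingCat.of A₀)).residueField y₀) k := ψ.hom.toAlgebra
    exact (RingHom.flat_algebraMap_iff).2 inferInstance
  haveI : Surjective (Spec.map ψ) := ⟨fun z => ⟨⟨⊥, Ideal.isPrime_bot⟩, Subsingleton.elim _ _⟩⟩
  have hy₀ : CohB1.IsAmple ((Scheme.Modules.pullback (q₀.fiberι y₀)).obj L₀) := by
    refine Groth.Agent.S2491.result (q₀.fiberToSpecResidueField y₀) (Spec.map ψ) _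
      (Groth.PicAux.isInvertible_pullback _ hL₀) ?_
    let α := hsqk.isoPullback
    have hα : α.inv ≫ g' = pullback.fst _ _ := hsqk.isoPullback_inv_fst
    let ι₁ : (Scheme.Modules.pullback g').obj ((Scheme.Modules.pullback (q₀.fiberι y₀)).obj L₀) ≅
        (Scheme.Modules.pullback (f.fiberι y)).obj L :=
      (Scheme.Modules.pullbackComp g' (q₀.fiberι y₀)).app L₀ ≪≫
        (Scheme.Modules.pullbackCongr hg1).app L₀ ≪≫
        ((Scheme.Modules.pullbackComp (fibreToPreimage f y hy₁) g).app L₀).symm ≪≫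
        (Scheme.Modules.pullback (fibreToPreimage f y hy₁)).mapIso eL ≪≫
        fibreModIso f L y hy₁
    exact Groth.Ega2Proj.isAmple_of_iso
      ((Scheme.Modules.pullbackComp α.inv g').app _ ≪≫ (Scheme.Modules.pullbackCongr hα).app _)
      (isAmple_pullback_iso α.symm (Groth.Ega2Proj.isAmple_of_iso ι₁.symm hy))
  obtain ⟨V₀, hV₀, hyV₀, hA₀⟩ := exists_nhd_isAmple q₀ y₀ hL₀ hy₀
  -- an affine neighbourhood mapping into it
  let W : S.Opens := hV₁.fromSpec ''ᵁ (Spec.map (CommRingCat.ofHom φ) ⁻¹ᵁ V₀)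
  have hyW : y ∈ W := by
    refine ⟨hV₁.primeIdealOf ⟨y, hy₁⟩, ?_, hV₁.fromSpec_primeIdealOf _⟩
    have hpt : hV₁.primeIdealOf ⟨y, hy₁⟩ =
        Spec.map (S.evaluation V₁ y hy₁) (IsLocalRing.closedPoint k) := by
      refine hV₁.fromSpec.isEmbedding.injective ((hV₁.fromSpec_primeIdealOf _).trans ?_)
      rw [← Scheme.Hom.comp_apply, SpecMap_evaluation_fromSpec hV₁ y hy₁,
        Scheme.fromSpecResidueField_apply]
    show Spec.map (CommRingCat.ofHom φ) (hV₁.primeIdealOf ⟨y, hy₁⟩) ∈ V₀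
    rw [hpt, ← Scheme.Hom.comp_apply]
    exact hyV₀
  obtain ⟨_, ⟨(V : S.Opens), hV, rfl⟩, hyV, hVW⟩ :=
    S.isBasis_affineOpens.exists_subset_of_mem_open hyW W.2
  have hle : V ≤ V₁ := fun z hz => by
    obtain ⟨z', -, rfl⟩ := hVW hz
    exact hV₁.range_fromSpec.le ⟨z', rfl⟩
  refine ⟨V, hV, hyV, ?_⟩
  let b : Spec (CommRingCat.of Γ(S, V)) ⟶ Spec (CommRingCat.of A) :=
    Spec.map (S.presheaf.map (homOfLE hle).op)
  have hb : b ≫ hV₁.fromSpec = hV.fromSpec := hV₁.map_fromSpec hV (homOfLE hle).op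
  let XB : Scheme.{u} := (f ⁻¹ᵁ V : X.Opens)
  let ρ : XB ⟶ XA := X.homOfLE (f.preimage_mono hle)
  have hρ : IsPullback ρ (preimageToSpec f (V := V)) q b := by
    have h : IsPullback (ρ ≫ (f ⁻¹ᵁ V₁).ι) (preimageToSpec f (V := V)) f (b ≫ hV₁.fromSpec) := by
      rw [Scheme.homOfLE_ι, hb]
      exact isPullback_preimageToSpec f hV
    refine h.of_right ?_ hq
    rw [← cancel_mono hV₁.fromSpec, Category.assoc, Category.assoc, ← hq.w, ← Category.assoc]
    exact h.w
  haveI : IsAffine (V₀ : Scheme.{u}) := hV₀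
  let e₁ : Spec (CommRingCat.of Γ(S, V)) ⟶ (V₀ : Scheme.{u}) :=
    IsOpenImmersion.lift V₀.ι (b ≫ Spec.map (CommRingCat.ofHom φ)) (by
      rw [Scheme.Opens.range_ι]
      rintro _ ⟨P, rfl⟩
      have hPV : hV₁.fromSpec (b P) ∈ V := by
        rw [← Scheme.Hom.comp_apply, hb]
        exact hV.range_fromSpec.le ⟨P, rfl⟩
      obtain ⟨Q, hQ, hQP⟩ := hVW hPV
      rw [Scheme.Hom.comp_apply, ← hV₁.fromSpec.isEmbedding.injective hQP]
      exact hQ)
  have he₁ : e₁ ≫ V₀.ι = b ≫ Spec.map (CommRingCat.ofHom φ) := IsOpenImmersion.lift_fac _ _ _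
  have hbig₁ : IsPullback (ρ ≫ g) (preimageToSpec f (V := V)) q₀ (e₁ ≫ V₀.ι) := by
    rw [he₁]; exact hρ.paste_horiz hsq
  let h₁ : XB ⟶ (q₀ ⁻¹ᵁ V₀ : Scheme.{u}) := IsOpenImmersion.lift (q₀ ⁻¹ᵁ V₀).ι (ρ ≫ g) (by
    rw [Scheme.Opens.range_ι]
    rintro _ ⟨z, rfl⟩
    have := congr($(hbig₁.w) z)
    rw [Scheme.Hom.comp_apply, Scheme.Hom.comp_apply (preimageToSpec f), Scheme.Hom.comp_apply e₁]
      at this
    show q₀ ((ρ ≫ g) z) ∈ V₀
    rw [this]
    exact (e₁ _).2)
  have hh₁ : h₁ ≫ (q₀ ⁻¹ᵁ V₀).ι = ρ ≫ g := IsOpenImmersion.lift_fac _ _ _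
  have hsq₁ : IsPullback h₁ (preimageToSpec f (V := V)) (q₀ ∣_ V₀) e₁ := by
    have h : IsPullback (h₁ ≫ (q₀ ⁻¹ᵁ V₀).ι) (preimageToSpec f (V := V)) q₀ (e₁ ≫ V₀.ι) := by
      rw [hh₁]; exact hbig₁
    refine h.of_right ?_ (isPullback_morphismRestrict q₀ V₀).flip
    rw [← cancel_mono V₀.ι, Category.assoc, Category.assoc, morphismRestrict_ι, ← Category.assoc]
    exact h.w
  haveI : IsAffineHom h₁ :=
    MorphismProperty.of_isPullback (P := @IsAffineHom) hsq₁.flip (isAffineHom_of_isAffine e₁)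
  exact Groth.Ega2Proj.isAmple_of_iso
    ((Scheme.Modules.pullback h₁).mapIso
        ((Scheme.Modules.restrictFunctorIsoPullback (q₀ ⁻¹ᵁ V₀).ι).app L₀) ≪≫
      (Scheme.Modules.pullbackComp h₁ (q₀ ⁻¹ᵁ V₀).ι).app L₀ ≪≫
      (Scheme.Modules.pullbackCongr hh₁).app L₀ ≪≫
      ((Scheme.Modules.pullbackComp ρ g).app L₀).symm ≪≫
      (Scheme.Modules.pullback ρ).mapIso
        (eL ≪≫ (Scheme.Modules.restrictFunctorIsoPullback (f ⁻¹ᵁ V₁).ι).app L) ≪≫
      (Scheme.Modules.pullbackComp ρ (f ⁻¹ᵁ V₁).ι).app L ≪≫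
      (Scheme.Modules.pullbackCongr (X.homOfLE_ι _)).app L ≪≫
      ((Scheme.Modules.restrictFunctorIsoPullback (f ⁻¹ᵁ V).ι).app L).symm)
    (Groth.Chow.isAmple_pullback_of_isAffineHom h₁ hA₀)

end Groth.AmpleFibre
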