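import Groth.Agent.AmpleFibre.FP
import Groth.Agent.Limits.ProperApprox
import Groth.Agent.Limits.ClosedApprox
import Groth.Agent.Limits.OpenPullback

/-!
# Ampleness near an ample fibre of a proper morphism
-/

universe u

open CategoryTheory CategoryTheory.Limits AlgebraicGeometry Opposite TopologicalSpace

set_option backward.isDefEq.respectTransparency.types false

noncomputable section

namespace Groth.AmpleFibre

open Groth.CohBase

variable {X S : Scheme.{u}}

/-- Ampleness over a field-valued point gives ampleness on the fibre. -/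
theorem isAmple_fibre_of_point (q : X ⟶ S) [IsProper q] {k : Type u} [Field k]
    (w : Spec (CommRingCat.of k) ⟶ S) {L : X.Modules} (hL : PicF.IsInvertible L) {X' : Scheme.{u}}
    (h : X' ⟶ X) (q' : X' ⟶ Spec (CommRingCat.of k)) (hsq : IsPullback h q' q w)
    (ha : CohB1.IsAmple ((Scheme.Modules.pullback h).obj L)) :
    CohB1.IsAmple ((Scheme.Modules.pullback (q.fiberι (w (IsLocalRing.closedPoint k)))).obj L) := by
  let y₀ := w (IsLocalRing.closedPoint k)
  let ψ := Scheme.descResidueField (Scheme.stalkClosedPointTo w)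
  have hψ : Spec.map ψ ≫ S.fromSpecResidueField y₀ = w :=
    Scheme.descResidueField_stalkClosedPointTo_fromSpecResidueField k _ w
  let g' : X' ⟶ q.fiber y₀ := pullback.lift h (q' ≫ Spec.map ψ)
    (by rw [Category.assoc q', hψ]; exact hsq.w)
  have hg1 : g' ≫ q.fiberι y₀ = h := pullback.lift_fst _ _ _
  have hsqk : IsPullback g' q' (q.fiberToSpecResidueField y₀) (Spec.map ψ) := by
    have h' : IsPullback (g' ≫ q.fiberι y₀) q' q (Spec.map ψ ≫ S.fromSpecResidueField y₀) := by
      rw [hg1, hψ]; exact hsq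
    exact h'.of_right (pullback.lift_snd _ _ _) (IsPullback.of_hasPullback _ _)
  haveI : IsProper (q.fiberToSpecResidueField y₀) :=
    MorphismProperty.pullback_snd (P := @IsProper) _ _ ‹_›
  haveI : Flat (Spec.map ψ) := by
    rw [HasRingHomProperty.Spec_iff (P := @Flat)]
    letI : Algebra (S.residueField y₀) k := ψ.hom.toAlgebra
    exact (RingHom.flat_algebraMap_iff).2 inferInstance
  haveI : Surjective (Spec.map ψ) := ⟨fun z => ⟨⟨⊥, Ideal.isPrime_bot⟩, Subsingleton.elim _ _⟩⟩
  refine Groth.Agent.S2491.result (q.fiberToSpecResidueField y₀) (Spec.map ψ) _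
    (Groth.PicAux.isInvertible_pullback _ hL) ?_
  let α := hsqk.isoPullback
  have hα : α.inv ≫ g' = pullback.fst _ _ := hsqk.isoPullback_inv_fst
  exact Groth.Ega2Proj.isAmple_of_iso
    ((Scheme.Modules.pullbackComp α.inv g').app _ ≪≫ (Scheme.Modules.pullbackCongr hα).app _)
    (isAmple_pullback_iso α.symm (Groth.Ega2Proj.isAmple_of_iso
      (((Scheme.Modules.pullbackComp g' (q.fiberι y₀)).app L ≪≫
        (Scheme.Modules.pullbackCongr hg1).app L).symm) ha))

variable (f : X ⟶ S) [IsProper f]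

set_option maxHeartbeats 1600000 in
/-- An invertible module ample on a fibre of a proper morphism is ample over a neighbourhood. -/
theorem exists_nhd_isAmple_proper (y : S) {L : X.Modules} (hL : PicF.IsInvertible L)
    (hy : CohB1.IsAmple ((Scheme.Modules.pullback (f.fiberι y)).obj L)) :
    ∃ V : S.Opens, IsAffineOpen V ∧ y ∈ V ∧ CohB1.IsAmple (L.restrict (f ⁻¹ᵁ V).ι) := by
  classical
  obtain ⟨V₁, hV₁, hy₁, -⟩ := exists_isAffineOpen_mem_and_subset (X := S) (x := y) (U := ⊤) trivial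
  let A : Type u := Γ(S, V₁)
  let XA : Scheme.{u} := (f ⁻¹ᵁ V₁ : X.Opens)
  let q : XA ⟶ Spec (CommRingCat.of A) := preimageToSpec f
  have hq := isPullback_preimageToSpec f hV₁
  haveI : IsProper q := MorphismProperty.of_isPullback hq ‹IsProper f›
  obtain ⟨P, p, j, hp, hpfp, hj, hjp⟩ := Groth.Limits.exists_proper_fp_closedImmersion q
  haveI := hp; haveI := hpfp; haveI := hj
  haveI : CompactSpace P := QuasiCompact.compactSpace_of_compactSpace p
  haveI : QuasiSeparatedSpace P := quasiSeparatedSpace_of_quasiSeparated p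
  obtain ⟨I, _, _, _, D, c, hc, e, hst, htr⟩ := Groth.Limits.exists_closedApprox (ι := j)
  haveI : IsFiltered I := isFiltered_of_directed_le_nonempty _
  haveI : IsCofiltered Iᵒᵖ := isCofiltered_op_of_isFiltered _
  haveI : IsConnected Iᵒᵖ := IsCofiltered.isConnected _
  let D' := D ⋙ Over.forget P
  let c' : Cone D' := (Over.forget P).mapCone c
  have hc' : IsLimit c' := isLimitOfPreserves (Over.forget P) hc
  haveI haffD : ∀ (i i' : Iᵒᵖ) (a : i ⟶ i'), IsAffineHom (D'.map a) := fun i i' a =>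
    haveI := htr i i' a
    inferInstanceAs (IsAffineHom (D.map a).left)
  haveI hcpt : ∀ i, CompactSpace (D'.obj i) := fun i => by
    let κ : D'.obj i ⟶ P := (D.obj i).hom
    haveI : IsClosedImmersion κ := (hst i).1
    exact QuasiCompact.compactSpace_of_compactSpace κ
  haveI hqs : ∀ i, QuasiSeparatedSpace (D'.obj i) := fun i => by
    let κ : D'.obj i ⟶ P := (D.obj i).hom
    haveI : IsClosedImmersion κ := (hst i).1
    exact quasiSeparatedSpace_of_quasiSeparated κ
  let η : c'.pt ≅ XA := (Over.forget P).mapIso e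
  obtain ⟨i₁⟩ := ‹Nonempty I›
  obtain ⟨i₀, -, L₀, hL₀, ⟨α₀⟩⟩ := Groth.PicAux.LimitInv.exists_stage_invertible (D := D') (c := c')
    hc' (op i₁) (Groth.PicAux.isInvertible_pullback η.hom
      (Groth.Ega2Proj.isInvertible_restrict (f ⁻¹ᵁ V₁).ι hL))
  -- the fibres of the stages
  let k := S.residueField y
  let w : Spec (CommRingCat.of k) ⟶ Spec (CommRingCat.of A) := Spec.map (S.evaluation V₁ y hy₁)
  let q₀ : D'.obj i₀ ⟶ Spec (CommRingCat.of A) := (D.obj i₀).hom ≫ p
  let a : pullback q₀ w ⟶ D'.obj i₀ := pullback.fst _ _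
  let Pd := Groth.Limits.pullbackDiagram D' i₀ a
  haveI hcptP : ∀ i, CompactSpace (Pd.obj i) := fun i => by
    let κ : Pd.obj i ⟶ pullback q₀ w := pullback.snd _ _
    haveI : QuasiCompact q₀ := by
      haveI := (hst i₀).1
      exact MorphismProperty.comp_mem @QuasiCompact (D.obj i₀).hom p inferInstance inferInstance
    haveI : CompactSpace (pullback q₀ w : Scheme.{u}) :=
      haveI : QuasiCompact (pullback.snd q₀ w) := MorphismProperty.pullback_snd (P := @QuasiCompact) _ _ ‹_›
      QuasiCompact.compactSpace_of_compactSpace (pullback.snd q₀ w)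
    haveI : QuasiCompact κ := MorphismProperty.pullback_snd (P := @QuasiCompact) _ _
      (by haveI := haffD _ _ i.hom; exact inferInstanceAs (QuasiCompact (D'.map i.hom)))
    exact QuasiCompact.compactSpace_of_compactSpace κ
  haveI hqsP : ∀ i, QuasiSeparatedSpace (Pd.obj i) := fun i => by
    let κ : Pd.obj i ⟶ pullback q₀ w := pullback.snd _ _
    haveI : IsSeparated q₀ := by
      haveI := (hst i₀).1
      exact MorphismProperty.comp_mem @IsSeparated (D.obj i₀).hom p inferInstance inferInstance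
    haveI : QuasiSeparatedSpace (pullback q₀ w : Scheme.{u}) :=
      haveI : QuasiSeparated (pullback.snd q₀ w) :=
        MorphismProperty.pullback_snd (P := @QuasiSeparated) _ _ inferInstance
      quasiSeparatedSpace_of_quasiSeparated (pullback.snd q₀ w)
    haveI : QuasiSeparated κ := MorphismProperty.pullback_snd (P := @QuasiSeparated) _ _
      (by haveI := haffD _ _ i.hom; exact inferInstanceAs (QuasiSeparated (D'.map i.hom)))
    exact quasiSeparatedSpace_of_quasiSeparated κ
  let top : Over i₀ := Over.mk (𝟙 i₀)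
  let g₀ : Pd.obj top ⟶ D'.obj i₀ := pullback.snd ((Over.post D').obj top).hom a ≫ a
  let C := Groth.Limits.pullbackCone D' i₀ a c'
  have hπ : η.inv ≫ c'.π.app i₀ ≫ (D.obj i₀).hom = j :=
    (congrArg (η.inv ≫ ·) (Over.w (c.π.app i₀))).trans (Over.w e.inv)
  have hamp : CohB1.IsAmple ((Scheme.Modules.pullback (C.π.app top)).obj
      ((Scheme.Modules.pullback g₀).obj L₀)) := by
    have hsq : IsPullback (pullback.fst (c'.π.app i₀) a)
        (pullback.snd (c'.π.app i₀) a ≫ pullback.snd q₀ w) (c'.π.app i₀ ≫ q₀) w :=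
      (IsPullback.of_hasPullback (c'.π.app i₀) a).paste_vert (IsPullback.of_hasPullback q₀ w)
    have hsq' : IsPullback (fibreToPreimage f y hy₁ ≫ η.inv) (f.fiberToSpecResidueField y)
        (c'.π.app i₀ ≫ q₀) w := by
      have h1 : η.inv ≫ c'.π.app i₀ ≫ q₀ = q := by
        rw [← hjp, ← hπ]; simp only [q₀, Category.assoc]
      exact Category.comp_id w ▸ (isPullback_fibreToPreimage f hV₁ y hy₁).paste_horiz
        (show IsPullback η.inv q (c'.π.app i₀ ≫ q₀) (𝟙 _) from
          IsPullback.of_horiz_isIso ⟨by rw [h1, Category.comp_id]⟩)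
    let β := hsq.isoIsPullback _ _ hsq'
    have hβ : β.hom ≫ fibreToPreimage f y hy₁ ≫ η.inv = pullback.fst (c'.π.app i₀) a :=
      hsq.isoIsPullback_hom_fst _ _ hsq'
    have hC : C.π.app top ≫ g₀ = pullback.fst (c'.π.app i₀) a ≫ c'.π.app i₀ := by
      rw [← Category.assoc]
      exact (congrArg (· ≫ a) (pullback.lift_snd _ _ _)).trans pullback.condition.symm
    let θ : (Scheme.Modules.pullback η.inv).obj ((Scheme.Modules.pullback (c'.π.app i₀)).obj L₀) ≅
        L.restrict (f ⁻¹ᵁ V₁).ι :=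
      (Scheme.Modules.pullback η.inv).mapIso α₀ ≪≫ (Scheme.Modules.pullbackComp η.inv η.hom).app _ ≪≫
        (Scheme.Modules.pullbackCongr η.inv_hom_id).app _ ≪≫ (Scheme.Modules.pullbackId _).app _
    exact Groth.Ega2Proj.isAmple_of_iso
      ((Scheme.Modules.pullback β.hom).mapIso
          ((fibreModIso f L y hy₁).symm ≪≫ (Scheme.Modules.pullback _).mapIso θ.symm ≪≫
            (Scheme.Modules.pullbackComp (fibreToPreimage f y hy₁) η.inv).app _) ≪≫
        (Scheme.Modules.pullbackComp β.hom _).app _ ≪≫ (Scheme.Modules.pullbackCongr hβ).app _ ≪≫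
        (Scheme.Modules.pullbackComp _ (c'.π.app i₀)).app L₀ ≪≫
        (Scheme.Modules.pullbackCongr hC.symm).app L₀ ≪≫
        ((Scheme.Modules.pullbackComp (C.π.app top) g₀).app L₀).symm)
      (isAmple_pullback_iso β hy)
  obtain ⟨i, φ, hi⟩ := Groth.Limits.AmpleStage.exists_stage_isAmple
    (Groth.Limits.isLimitPullbackCone D' i₀ a hc') top _ (Groth.PicAux.isInvertible_pullback g₀ hL₀) hamp
  let qi : D'.obj i.left ⟶ Spec (CommRingCat.of A) := (D.obj i.left).hom ≫ p
  haveI : IsClosedImmersion (D.obj i.left).hom := (hst i.left).1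
  haveI : LocallyOfFinitePresentation (D.obj i.left).hom := (hst i.left).2
  haveI : IsProper qi := MorphismProperty.comp_mem @IsProper (D.obj i.left).hom p inferInstance hp
  haveI : LocallyOfFinitePresentation qi :=
    MorphismProperty.comp_mem @LocallyOfFinitePresentation (D.obj i.left).hom p inferInstance hpfp
  let Li := (Scheme.Modules.pullback (D'.map i.hom)).obj L₀
  have hLi : PicF.IsInvertible Li := Groth.PicAux.isInvertible_pullback _ hL₀
  have hfi : Pd.map φ ≫ g₀ = pullback.fst (D'.map i.hom) a ≫ D'.map i.hom := by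
    rw [← Category.assoc]
    exact (congrArg (· ≫ a) (pullback.lift_snd _ _ _)).trans pullback.condition.symm
  have hsqi : IsPullback (pullback.fst (D'.map i.hom) a)
      (pullback.snd (D'.map i.hom) a ≫ pullback.snd q₀ w) qi w := by
    have h1 : D'.map i.hom ≫ q₀ = qi := by
      simp only [q₀, qi, ← Category.assoc]
      exact congrArg (· ≫ p) (Over.w (D.map i.hom))
    rw [← h1]
    exact (IsPullback.of_hasPullback (D'.map i.hom) a).paste_vert (IsPullback.of_hasPullback q₀ w)
  have hfib := isAmple_fibre_of_point qi w hLi _ _ hsqi (Groth.Ega2Proj.isAmple_of_iso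
    ((Scheme.Modules.pullbackComp (Pd.map φ) g₀).app L₀ ≪≫
      (Scheme.Modules.pullbackCongr hfi).app L₀ ≪≫
      ((Scheme.Modules.pullbackComp (pullback.fst (D'.map i.hom) a) (D'.map i.hom)).app L₀).symm) hi)
  obtain ⟨V₀, hV₀, hyV₀, hA₀⟩ := exists_nhd_isAmple_fp qi _ hLi hfib
  have hyW : y ∈ hV₁.fromSpec ''ᵁ V₀ := by
    refine ⟨w (IsLocalRing.closedPoint k), hyV₀, ?_⟩
    show (w ≫ hV₁.fromSpec) (IsLocalRing.closedPoint k) = y
    rw [SpecMap_evaluation_fromSpec hV₁ y hy₁]
    exact Scheme.fromSpecResidueField_apply y _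
  obtain ⟨_, ⟨(V : S.Opens), hV, rfl⟩, hyV, hVW⟩ :=
    S.isBasis_affineOpens.exists_subset_of_mem_open hyW (hV₁.fromSpec ''ᵁ V₀).2
  refine ⟨V, hV, hyV, ?_⟩
  have hle : V ≤ V₁ := fun z hz => by
    obtain ⟨z', -, rfl⟩ := hVW hz
    exact hV₁.range_fromSpec.le ⟨z', rfl⟩
  let r : XA ⟶ D'.obj i.left := η.inv ≫ c'.π.app i.left
  have hr : r ≫ qi = q := by
    rw [← hjp]
    simp only [r, qi, ← Category.assoc]
    refine congrArg (· ≫ p) ?_
    rw [Category.assoc]
    exact (congrArg (η.inv ≫ ·) (Over.w (c.π.app i.left))).trans (Over.w e.inv)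
  haveI : IsClosedImmersion r := by
    haveI : IsClosedImmersion (r ≫ (D.obj i.left).hom) := by
      rw [Category.assoc]
      exact ((congrArg (η.inv ≫ ·) (Over.w (c.π.app i.left))).trans (Over.w e.inv)).symm ▸ hj
    let κ : D'.obj i.left ⟶ P := (D.obj i.left).hom
    haveI : IsClosedImmersion κ := (hst i.left).1
    haveI : IsClosedImmersion (r ≫ κ) := ‹IsClosedImmersion (r ≫ (D.obj i.left).hom)›
    exact IsClosedImmersion.of_comp r κ
  haveI : IsAffineHom (r ∣_ (qi ⁻¹ᵁ V₀)) := inferInstance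
  let Lr : XA.Modules := (Scheme.Modules.pullback r).obj Li
  let θ : Lr ≅ L.restrict (f ⁻¹ᵁ V₁).ι :=
    (Scheme.Modules.pullbackComp r (D'.map i.hom)).app L₀ ≪≫
      (Scheme.Modules.pullbackCongr (show r ≫ D'.map i.hom = η.inv ≫ c'.π.app i₀ by
        rw [Category.assoc, c'.w])).app L₀ ≪≫
      ((Scheme.Modules.pullbackComp η.inv (c'.π.app i₀)).app L₀).symm ≪≫
      (Scheme.Modules.pullback η.inv).mapIso α₀ ≪≫ (Scheme.Modules.pullbackComp η.inv η.hom).app _ ≪≫
      (Scheme.Modules.pullbackCongr η.inv_hom_id).app _ ≪≫ (Scheme.Modules.pullbackId _).app _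
  -- restrict to the preimage of `V`
  let U := r ⁻¹ᵁ qi ⁻¹ᵁ V₀
  have hAU : CohB1.IsAmple (Lr.restrict U.ι) :=
    Groth.Ega2Proj.isAmple_of_iso
      ((Scheme.Modules.pullback (r ∣_ (qi ⁻¹ᵁ V₀))).mapIso
          ((Scheme.Modules.restrictFunctorIsoPullback (qi ⁻¹ᵁ V₀).ι).app Li) ≪≫
        (Scheme.Modules.pullbackComp (r ∣_ (qi ⁻¹ᵁ V₀)) (qi ⁻¹ᵁ V₀).ι).app Li ≪≫
        (Scheme.Modules.pullbackCongr (morphismRestrict_ι r (qi ⁻¹ᵁ V₀))).app Li ≪≫
        ((Scheme.Modules.pullbackComp U.ι r).app Li).symm ≪≫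
        ((Scheme.Modules.restrictFunctorIsoPullback U.ι).app Lr).symm)
      (Groth.Chow.isAmple_pullback_of_isAffineHom _ hA₀)
  have hAU' : CohB1.IsAmple (L.restrict (U.ι ≫ (f ⁻¹ᵁ V₁).ι)) :=
    Groth.Ega2Proj.isAmple_of_iso ((Scheme.Modules.restrictFunctor U.ι).mapIso θ ≪≫
      (Groth.Ega2Proj.restrictRestrictIso U.ι (f ⁻¹ᵁ V₁).ι L).symm) hAU
  haveI : CompactSpace ((f ⁻¹ᵁ V : X.Opens) : Scheme.{u}) :=
    isCompact_iff_compactSpace.1 (f.isCompact_preimage hV.isCompact)
  refine Groth.Ega2Proj.isAmple_restrict_of_range_le (f ⁻¹ᵁ V).ι _ ?_ hAU'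
  rw [Scheme.Opens.range_ι]
  intro x hx
  have hx1 : x ∈ f ⁻¹ᵁ V₁ := hle hx
  let x' : XA := ⟨x, hx1⟩
  refine ⟨⟨x', ?_⟩, rfl⟩
  change qi (r x') ∈ V₀
  rw [← Scheme.Hom.comp_apply, hr]
  obtain ⟨z, hz, hzx⟩ := hVW hx
  have hw : hV₁.fromSpec (q x') = f x := by
    rw [← Scheme.Hom.comp_apply]
    exact congr($(hq.w.symm) x')
  rwa [← hV₁.fromSpec.isEmbedding.injective (hzx.trans hw.symm)]

end Groth.AmpleFibre
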