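import Groth.Agent.CohTwo.AdicCartesian
import Groth.Agent.CohC3.FormalFunctions
import Groth.Agent.CohFin.Proper
import Groth.Agent.CohFin.ProjFinite
import Groth.Agent.Inter.AmpleCrit
import Groth.Agent.EulerDeg.Tensor
import Groth.Agent.VarietyBC.CurveGG
import Groth.Agent.PicAux.PullTensor
import Groth.Agent.RefRank.DivSheaf

/-!
# Ampleness over the closed fibre of a proper scheme over a local ring
-/

universe u

open CategoryTheory CategoryTheory.Limits AlgebraicGeometry Opposite TopologicalSpace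

set_option backward.isDefEq.respectTransparency.types false

noncomputable section

namespace Groth.AmpleFibre

open Groth.CohC3 Groth.CohTwo

variable {A : Type u} [CommRing A] {X : Scheme.{u}}

/-- Two quotients by the same ideal are isomorphic. -/
theorem nonempty_iso_of_isQuot [X.Over (Spec (CommRingCat.of A))] {J : Ideal A} {M G G' : X.Modules}
    {p : M ⟶ G} {p' : M ⟶ G'} (h : IsQuot J p) (h' : IsQuot J p') : Nonempty (G ≅ G') := by
  obtain ⟨a, ha⟩ := h.desc p' h'.le_ann
  obtain ⟨b, hb⟩ := h'.desc p h.le_ann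
  exact ⟨⟨a, b, h.hom_ext (by rw [← Category.assoc, ha, hb, Category.comp_id]),
    h'.hom_ext (by rw [← Category.assoc, hb, ha, Category.comp_id])⟩⟩

variable [IsNoetherianRing A] (q : X ⟶ Spec (CommRingCat.of A)) [IsProper q]

set_option maxHeartbeats 1600000 in
/-- **Serre vanishing** from ampleness over `Spec A/J`, for `J` in the radical. -/
theorem exists_vanishing {J : Ideal A} (hJ : J ≤ (⊥ : Ideal A).jacobson) {L : X.Modules}
    (hL : PicF.IsInvertible L)
    (ha : CohB1.IsAmple
      ((Scheme.Modules.pullback (pullback.fst q (CohB1.specQuot J 0))).obj L))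
    (G : X.Modules) (hG : Coh.IsCoh G) :
    ∃ d₀ : ℕ, ∀ d, d₀ ≤ d → ∀ p, 0 < p →
      Subsingleton (Coh.HH X (CohB1.tensorMod G (CohB1.tensorPow L d)) p) := by
  letI : X.Over (Spec (CommRingCat.of A)) := ⟨q⟩
  haveI : IsProper (X ↘ Spec (CommRingCat.of A)) := ‹IsProper q›
  haveI : IsNoetherian X := isNoetherian_of_proper A X
  haveI := hG.1
  let Xs : ℕ → Scheme.{u} := fun k => pullback q (CohB1.specQuot J k)
  let e : ∀ k, Xs k ⟶ X := fun k => pullback.fst _ _
  let p : ∀ k, Xs k ⟶ Spec (CommRingCat.of (A ⧸ J ^ (k + 1))) := fun k => pullback.snd _ _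
  let i : ∀ k, Xs k ⟶ Xs (k + 1) := fun k =>
    pullback.lift (e k) (p k ≫ CohB1.specQuotTrans J k)
      (by rw [Category.assoc, CohB1.specQuotTrans_specQuot]; exact pullback.condition)
  have hie : ∀ k, i k ≫ e (k + 1) = e k := fun k => pullback.lift_fst _ _ _
  have hcart : ∀ k, IsPullback (i k) (p k) (p (k + 1)) (CohB1.specQuotTrans J k) := fun k => by
    refine IsPullback.of_right ?_ (pullback.lift_snd _ _ _) (IsPullback.of_hasPullback q _)
    rw [hie, CohB1.specQuotTrans_specQuot]
    exact IsPullback.of_hasPullback q _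
  let S := AdicSch.ofCartesian J Xs p i hcart
  let T : ∀ k, (S.X k).Modules := fun k => (Scheme.Modules.pullback (e k)).obj G
  let L' : ∀ k, (S.X k).Modules := fun k => (Scheme.Modules.pullback (e k)).obj L
  have hT : ∀ k, (T k).IsQuasicoherent := fun k => QCohMod.isQCoh_pullback_obj _ _
  have ψ : ∀ (F : X.Modules) k, Nonempty ((Scheme.Modules.pullback (S.i k)).obj
      ((Scheme.Modules.pullback (e (k + 1))).obj F) ≅ (Scheme.Modules.pullback (e k)).obj F) :=
    fun F k => ⟨(Scheme.Modules.pullbackComp (i k) (e (k + 1))).app F ≪≫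
      (Scheme.Modules.pullbackCongr (hie k)).app F⟩
  have hp0 : IsProper (p 0) := MorphismProperty.pullback_snd (P := @IsProper) _ _ ‹_›
  have hL' : ∀ k, PicF.IsInvertible (L' k) := fun k => PicAux.isInvertible_pullback (e k) hL
  obtain ⟨d₀, hd₀⟩ := (AdicMod.ofIso S T hT (ψ G)).exists_uniform_vanishing L'
    (ker_toX_le J Xs p i hcart) hL' (ψ L) (isProper_zero J Xs p i hcart hp0) ha
    ⟨hT 0, QCohMod.isFT_pullback _ _ hG.2⟩
  refine ⟨d₀, fun d hd r hr => ?_⟩
  let H := CohB1.tensorMod G (CohB1.tensorPow L d)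
  have hH : Coh.IsCoh H := Groth.EulerDeg.isCoh_tensor hG
    (Groth.VarietyBC.CurveGG.isCoh_of_isInvertible (PicAux.isInvertible_tensorPow hL d))
  haveI := hH.1
  have hfin : ∀ r, Module.Finite A (Coh.HH X H r) := fun r =>
    CohFin.hFin_of_proper CohFin.projFinite r X q H hH
  have hvan : ∀ k, Subsingleton (Coh.HH X (Formal.modPow J (k + 1) H) r) := fun k => by
    haveI : IsClosedImmersion (e k) :=
      MorphismProperty.pullback_fst (P := @IsClosedImmersion) _ _
        (IsClosedImmersion.spec_of_surjective _ Ideal.Quotient.mk_surjective)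
    have hker : ∀ U : X.affineOpens, (e k).ker.ideal U ≤ (J ^ (k + 1)).map (baseApp X U.1) := by
      intro U
      let θ : CommRingCat.of (A ⧸ (⊥ : Ideal A)) ≅ CommRingCat.of A :=
        (RingEquiv.quotientBot A).toCommRingCatIso
      refine ker_le_of_isPullback (W := X) (fst := e k) (snd := p k)
        (f := q ≫ Spec.map θ.hom) bot_le ?_ ?_ U
      · haveI : IsIso (Spec.map θ.hom) := inferInstance
        refine IsPullback.of_iso (IsPullback.of_hasPullback q (CohB1.specQuot J k)) (Iso.refl _)
          (Iso.refl _) (Iso.refl _) (asIso (Spec.map θ.hom)) (by simp [e]) (by simp [p]) (by simp) ?_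
        simp only [Iso.refl_hom, Category.id_comp, asIso_hom, CohB1.specQuot, ← Spec.map_comp]
        congr 1
        ext a
        rfl
      · rw [Category.assoc, ← Spec.map_comp]
        refine (congrArg (q ≫ ·) ?_).trans (Category.comp_id q)
        rw [← Spec.map_id]
        congr 1
    have hq : IsQuot (J ^ (k + 1)) ((Scheme.Modules.pullbackPushforwardAdjunction (e k)).unit.app H) := by
      letI : (Xs k).Over (Spec (CommRingCat.of A)) := S.str k
      exact isQuot_unit (e k) pullback.condition (S.zero k) hker H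
    obtain ⟨θ⟩ := nonempty_iso_of_isQuot hq (isQuot_modPowπ J (k + 1) H)
    refine PnCoh.subsingleton_HH_of_iso q θ (AdicMod.subsingleton_HH_push (e k) q ?_)
    exact PnCoh.subsingleton_HH_of_iso (S.X k ↘ Spec (CommRingCat.of A))
      ((PicAux.exists_pullback_tensorMod (e k) G (CohB1.tensorPow L d)).choose ≪≫
        PicGrp.tensorModIso (Iso.refl _) (PicAux.pullback_tensorPow (e k) L d).some).symm
      (hd₀ d hd k r hr).1
  obtain ⟨m, hm, hker⟩ := (proBij J hH hfin r).ker 1
  obtain ⟨m, rfl⟩ : ∃ k, m = k + 1 := ⟨m - 1, by omega⟩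
  have htop : (⊤ : Submodule A (Coh.HH X H r)) ≤ J • ⊤ := fun x _ => by
    have := hvan m
    simpa using hker x (Subsingleton.elim _ _)
  have hbot := Submodule.eq_bot_of_le_smul_of_le_jacobson_bot J _
    (hfin r).fg_top htop hJ
  exact ⟨fun x y => by
    rw [(Submodule.mem_bot A).1 (hbot.le (Submodule.mem_top (x := x))),
      (Submodule.mem_bot A).1 (hbot.le (Submodule.mem_top (x := y)))]⟩

/-- **Ampleness over `Spec A/J`** implies ampleness, for `J` in the radical. -/
theorem isAmple_of_quot {J : Ideal A} (hJ : J ≤ (⊥ : Ideal A).jacobson) {L : X.Modules}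
    (hL : PicF.IsInvertible L)
    (ha : CohB1.IsAmple
      ((Scheme.Modules.pullback (pullback.fst q (CohB1.specQuot J 0))).obj L)) :
    CohB1.IsAmple L := by
  letI : X.Over (Spec (CommRingCat.of A)) := ⟨q⟩
  haveI : IsProper (X ↘ Spec (CommRingCat.of A)) := ‹IsProper q›
  haveI : IsNoetherian X := isNoetherian_of_proper A X
  refine Groth.Inter.isAmple_of_ideal_vanishing hL fun I => ?_
  obtain ⟨d₀, hd₀⟩ := exists_vanishing q hJ hL ha _ (Groth.RefRank.isCoh_idealMod I)
  exact ⟨d₀, hd₀ (d₀ + 1) (by omega) 1 one_pos⟩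

end Groth.AmpleFibre
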