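import Groth.Agent.AmpleFibre.Local
import Groth.Agent.Limits.LocalLimit
import Groth.Agent.Limits.OpenPullback
import Groth.Agent.Limits.AmpleStage
import Groth.Agent.Ega2Proj.RelAmple
import Groth.Agent.CohBase.FibreBC
import Groth.Agent.Chow.VeryAmplePn
import Groth.Prelude.Def_LCI2

/-!
# Ampleness near an ample fibre
-/

universe u

open CategoryTheory CategoryTheory.Limits AlgebraicGeometry Opposite TopologicalSpace

set_option backward.isDefEq.respectTransparency.types false

noncomputable section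

namespace Groth.AmpleFibre

variable {X Y : Scheme.{u}} (f : X ⟶ Y) [IsProper f]

theorem isAmple_pullback_iso {A B : Scheme.{u}} (α : A ≅ B) {N : B.Modules} (h : CohB1.IsAmple N) :
    CohB1.IsAmple ((Scheme.Modules.pullback α.hom).obj N) := by
  haveI := h.2.1
  haveI : CompactSpace A := QuasiCompact.compactSpace_of_compactSpace α.hom
  exact Groth.Ega2Proj.isAmple_pullback α.hom α.hom.homeomorph.isInducing h

/-- Ampleness on a fibre passes to the scheme over the local ring. -/
theorem isAmple_local (y : Y) [IsNoetherianRing (Y.presheaf.stalk y)] {L : X.Modules}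
    (hL : PicF.IsInvertible L)
    (hy : CohB1.IsAmple ((Scheme.Modules.pullback (f.fiberι y)).obj L)) :
    CohB1.IsAmple ((Scheme.Modules.pullback (pullback.fst f (Y.fromSpecStalk y))).obj L) := by
  let A := Y.presheaf.stalk y
  let J := IsLocalRing.maximalIdeal A
  let q : pullback f (Y.fromSpecStalk y) ⟶ Spec (CommRingCat.of A) := pullback.snd _ _
  haveI : IsProper q := MorphismProperty.pullback_snd (P := @IsProper) _ _ ‹_›
  refine isAmple_of_quot q (J := J) (IsLocalRing.jacobson_eq_maximalIdeal ⊥ bot_ne_top).ge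
    (PicAux.isInvertible_pullback _ hL) ?_
  let θ : CommRingCat.of (A ⧸ J ^ (0 + 1)) ≅ Y.residueField y :=
    (Ideal.quotEquivOfEq (by rw [zero_add, pow_one] : J ^ (0 + 1) = J)).toCommRingCatIso
  let g : pullback q (CohB1.specQuot J 0) ⟶ X := pullback.fst _ _ ≫ pullback.fst _ _
  have h1 : IsPullback g (pullback.snd _ _) f (CohB1.specQuot J 0 ≫ Y.fromSpecStalk y) :=
    (IsPullback.of_hasPullback q (CohB1.specQuot J 0)).paste_horiz (IsPullback.of_hasPullback f _)
  have hθ : Spec.map θ.hom ≫ CohB1.specQuot J 0 ≫ Y.fromSpecStalk y = Y.fromSpecResidueField y := by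
    rw [Scheme.fromSpecResidueField, CohB1.specQuot, ← Category.assoc, ← Spec.map_comp]
    congr 2
  let S := (Spec.map θ.hom)
  have h2 : IsPullback g (pullback.snd _ _ ≫ inv S) f (Y.fromSpecResidueField y) := by
    refine IsPullback.of_iso h1 (Iso.refl _) (Iso.refl _) (asIso S).symm (Iso.refl _) (by simp)
      (by simp) (by simp) ?_
    simp only [Iso.symm_hom, asIso_inv, Iso.refl_hom, Category.comp_id]
    rw [← hθ, IsIso.inv_hom_id_assoc]
  let α := h2.isoPullback
  have hα : α.hom ≫ f.fiberι y = g := h2.isoPullback_hom_fst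
  exact Groth.Ega2Proj.isAmple_of_iso
    ((Scheme.Modules.pullbackComp α.hom (f.fiberι y)).app L ≪≫
      (Scheme.Modules.pullbackCongr hα).app L ≪≫
      ((Scheme.Modules.pullbackComp (pullback.fst q (CohB1.specQuot J 0))
        (pullback.fst f (Y.fromSpecStalk y))).app L).symm)
    (isAmple_pullback_iso α hy)

set_option maxHeartbeats 1600000 in
/-- An invertible module ample on a fibre is ample over a neighbourhood. -/
theorem exists_nhd_isAmple (y : Y) [IsNoetherianRing (Y.presheaf.stalk y)] {L : X.Modules}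
    (hL : PicF.IsInvertible L)
    (hy : CohB1.IsAmple ((Scheme.Modules.pullback (f.fiberι y)).obj L)) :
    ∃ V : Y.Opens, IsAffineOpen V ∧ y ∈ V ∧ CohB1.IsAmple (L.restrict (f ⁻¹ᵁ V).ι) := by
  obtain ⟨W, hW, hyW, -⟩ := exists_isAffineOpen_mem_and_subset (X := Y) (x := y) (U := ⊤) trivial
  obtain ⟨hc⟩ := Groth.Limits.nonempty_isLimit_nhdCone hW hyW
  let D := Groth.Limits.nhdDiagram W y
  let t := Groth.Limits.BasicNhd.top hyW
  haveI : Nonempty (Groth.Limits.BasicNhd W y) := ⟨t⟩
  haveI : IsCofiltered (Groth.Limits.BasicNhd W y) := isCofiltered_of_directed_ge_nonempty _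
  haveI haff : ∀ j, IsAffine (D.obj j) := fun j => Groth.Limits.isAffineOpen_nhd hW j
  haveI : ∀ (i j : Groth.Limits.BasicNhd W y) (φ : i ⟶ j), IsAffineHom (D.map φ) := fun i j φ =>
    isAffineHom_of_isAffine (D.map φ)
  let a : pullback f t.1.ι ⟶ D.obj t := pullback.snd f t.1.ι
  haveI : IsProper a := MorphismProperty.pullback_snd (P := @IsProper) _ _ ‹_›
  let P := Groth.Limits.pullbackDiagram D t a
  haveI hcpt : ∀ j, CompactSpace (P.obj j) := fun j => by
    let k : P.obj j ⟶ D.obj j.left := pullback.fst ((Over.post D).obj j).hom a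
    haveI : QuasiCompact k :=
      MorphismProperty.pullback_fst (P := @QuasiCompact) _ _ (inferInstanceAs (QuasiCompact a))
    exact QuasiCompact.compactSpace_of_compactSpace k
  haveI hqs : ∀ j, QuasiSeparatedSpace (P.obj j) := fun j => by
    let k : P.obj j ⟶ D.obj j.left := pullback.fst ((Over.post D).obj j).hom a
    haveI : QuasiSeparated k :=
      MorphismProperty.pullback_fst (P := @QuasiSeparated) _ _ (inferInstanceAs (QuasiSeparated a))
    exact quasiSeparatedSpace_of_quasiSeparated k
  let i₀ : Over t := Over.mk (𝟙 t)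
  let g₀ : P.obj i₀ ⟶ X := pullback.snd ((Over.post D).obj i₀).hom a ≫ pullback.fst f t.1.ι
  let L₀ := (Scheme.Modules.pullback g₀).obj L
  let C := Groth.Limits.pullbackCone D t a (Groth.Limits.nhdCone W y)
  have hπ : (Groth.Limits.nhdCone W y).π.app t ≫ t.1.ι = Y.fromSpecStalk y :=
    Scheme.Opens.fromSpecStalkOfMem_ι _ _ _
  have hamp : CohB1.IsAmple ((Scheme.Modules.pullback (C.π.app i₀)).obj L₀) := by
    have hsq : IsPullback (pullback.snd ((Groth.Limits.nhdCone W y).π.app t) a ≫ pullback.fst f t.1.ι)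
        (pullback.fst ((Groth.Limits.nhdCone W y).π.app t) a) f (Y.fromSpecStalk y) := by
      rw [← hπ]
      exact (IsPullback.of_hasPullback _ a).flip.paste_horiz (IsPullback.of_hasPullback f t.1.ι)
    let α := hsq.isoPullback
    have hα : α.hom ≫ pullback.fst f (Y.fromSpecStalk y) = C.π.app i₀ ≫ g₀ := by
      refine hsq.isoPullback_hom_fst.trans ?_
      rw [← Category.assoc]
      exact congrArg (· ≫ pullback.fst f t.1.ι) (pullback.lift_snd _ _ _).symm
    exact Groth.Ega2Proj.isAmple_of_iso
      ((Scheme.Modules.pullbackComp α.hom _).app L ≪≫ (Scheme.Modules.pullbackCongr hα).app L ≪≫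
        ((Scheme.Modules.pullbackComp (C.π.app i₀) g₀).app L).symm)
      (isAmple_pullback_iso α (isAmple_local f y hL hy))
  obtain ⟨j, φ, hj⟩ := Groth.Limits.AmpleStage.exists_stage_isAmple
    (Groth.Limits.isLimitPullbackCone D t a hc) i₀ L₀ (PicAux.isInvertible_pullback _ hL) hamp
  let V : Y.Opens := j.left.1
  refine ⟨V, Groth.Limits.isAffineOpen_nhd hW j.left, j.left.2.1, ?_⟩
  let fj : P.obj j ⟶ X := pullback.snd ((Over.post D).obj j).hom a ≫ pullback.fst f t.1.ι
  have hfj : P.map φ ≫ g₀ = fj := by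
    rw [← Category.assoc]
    exact congrArg (· ≫ pullback.fst f t.1.ι) (pullback.lift_snd _ _ _)
  have hsqj : IsPullback fj (pullback.fst ((Over.post D).obj j).hom a) f V.ι := by
    have : ((Over.post D).obj j).hom ≫ t.1.ι = V.ι := Y.homOfLE_ι (leOfHom j.hom)
    rw [← this]
    exact (IsPullback.of_hasPullback _ a).flip.paste_horiz (IsPullback.of_hasPullback f t.1.ι)
  let β := (isPullback_morphismRestrict f V).flip.isoIsPullback _ _ hsqj
  have hβ : β.hom ≫ fj = (f ⁻¹ᵁ V).ι :=
    (isPullback_morphismRestrict f V).flip.isoIsPullback_hom_fst _ _ hsqj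
  exact Groth.Ega2Proj.isAmple_of_iso
    ((Scheme.Modules.pullback β.hom).mapIso
        ((Scheme.Modules.pullbackComp (P.map φ) g₀).app L ≪≫
          (Scheme.Modules.pullbackCongr hfj).app L) ≪≫
      (Scheme.Modules.pullbackComp β.hom fj).app L ≪≫ (Scheme.Modules.pullbackCongr hβ).app L ≪≫
      ((Scheme.Modules.restrictFunctorIsoPullback (f ⁻¹ᵁ V).ι).app L).symm)
    (isAmple_pullback_iso β hj)

end Groth.AmpleFibre

namespace Groth.AmpleFibre

/-- A relatively ample module is ample on the fibres. -/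
theorem isAmple_fibre_of_isRelAmple {X Y : Scheme.{u}} (f : X ⟶ Y) {L : X.Modules}
    (h : RelAmple.IsRelAmple f L) (y : Y) :
    CohB1.IsAmple ((Scheme.Modules.pullback (f.fiberι y)).obj L) := by
  obtain ⟨V, hV, hy, -⟩ := exists_isAffineOpen_mem_and_subset (X := Y) (x := y) (U := ⊤) trivial
  haveI : IsAffineHom (Groth.CohBase.fibreToPreimage f y hy) :=
    MorphismProperty.of_isPullback (P := @IsAffineHom)
      (Groth.CohBase.isPullback_fibreToPreimage f hV y hy).flip (isAffineHom_of_isAffine _)
  exact Groth.Ega2Proj.isAmple_of_iso (Groth.CohBase.fibreModIso f L y hy)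
    (Groth.Chow.isAmple_pullback_of_isAffineHom _ (h.2 ⟨V, hV⟩))

end Groth.AmpleFibre
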